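import Cfsg.Agent.Lib.Spor.HSFunctor.Balance
import Cfsg.Agent.S0217
import Cfsg.Agent.Lib.Invol.Bender.Tools
import Cfsg.Agent.Lib.Spor.JTwoType.Strong

/-!
# The closure of the cores over the elementary subgroup

The closure contains the core of every conjugate of the central involution in the Sylow subgroup, so its normaliser
controls that class and contains the centralizers of its members.
-/

set_option autoImplicit false
set_option linter.unusedSectionVars false
set_option linter.style.haveILetI false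

namespace Cfsg.Agent.Spor.HSFunctor

open Subgroup
open Cfsg.Agent.Spor.HSType
open Cfsg.Agent.Spor.JTwoType (θ θ_le θ_odd θ_conj θ_normal cI mem_cI card_cI mem_normalizer_of_cI align conj_into)

universe u

variable {G : Type u} [Group G] [Finite G] (d : Setting G)

/-- The closure. -/
def closW : Subgroup G := ⨆ a : {a : G // a ∈ d.subV ∧ a ≠ 1}, θ (a : G)

/-- Its normalizer. -/
def maxM : Subgroup G := normalizer (closW d : Set G)

theorem θ_le_W {a : G} (ha : a ∈ d.subV) (ha1 : a ≠ 1) : θ a ≤ closW d :=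
  le_iSup (fun a : {a : G // a ∈ d.subV ∧ a ≠ 1} => θ (a : G)) ⟨a, ha, ha1⟩

theorem conj_V {v : G} (hv : v ∈ d.subV) (h1 : v ≠ 1) : IsConj d.z v := by
  obtain ⟨n, hn, rfl⟩ := hv
  exact d.z_conj_V hn fun e => h1 (by rw [e, d.s.one])

theorem sq_V {v : G} (hv : v ∈ d.subV) : v * v = 1 := (d.mem_subV_iff.1 hv).2

theorem comm_V {v w : G} (hv : v ∈ d.subV) (hw : w ∈ d.subV) : v * w = w * v :=
  d.comm_subK (d.subV_le_subK hv) (d.subV_le_subK hw)

theorem S_le_M : (d.S : Subgroup G) ≤ maxM d := fun g hg => by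
  refine mem_normalizer_of_cI ?_
  rw [cI, map_le_iff_le_comap, closW]
  refine iSup_le fun a x hx => ?_
  have hgV := d.normalizer_subK_le (d.S_le_normalizer_subK hg)
  exact θ_le_W d ((mem_normalizer_iff.1 hgV _).1 a.2.1) (fun e => a.2.2 (conj_eq_one_iff.1 e)) (θ_conj hx)

theorem θ_z_le_W : θ d.z ≤ closW d :=
  θ_le_W d d.z_mem_V fun e => by have := d.orderOf_z; rw [e, orderOf_one] at this; norm_num at this

variable {d} (h : Local d)
include h

theorem W_spec : Odd (Nat.card ↥(closW d)) ∧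
    ∀ a ∈ d.subV, a ≠ 1 → closW d ⊓ centralizer ({a} : Set G) = θ a := by
  haveI : Fact (Nat.Prime 2) := ⟨Nat.prime_two⟩
  have hS := S0217.result (p := 2) d.subV (fun a ha b hb => comm_V d ha hb)
    (fun a ha => by rw [pow_two, sq_V d ha]) (by rw [d.card_subV]; norm_num)
    (fun g => θ g) (fun a _ _ => θ_le a)
    (fun a _ _ h' => (Nat.not_even_iff_odd.2 (θ_odd a)) (even_iff_two_dvd.2 h'))
    (fun a ha _ b hb x hx => θ_normal (comm_V d hb ha) hx)
    (fun a _ _ => Invol.Bender.solvable_of_odd (θ_odd a))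
    (fun a ha _ b hb hb1 => balance h (sq_V d ha) (conj_V d hb hb1) (comm_V d ha hb))
  refine ⟨?_, fun a ha ha1 => hS.2 a ha ha1⟩
  rw [closW, ← Nat.not_even_iff_odd, even_iff_two_dvd]
  exact hS.1

/-- Every conjugate of the central involution in the Sylow subgroup has its core in the closure. -/
theorem pure_spec {x : G} (hx : x ∈ (d.S : Subgroup G)) (hz : IsConj d.z x) :
    ∃ B : Subgroup G, B ≤ d.subV ∧ (∀ b ∈ B, b * x = x * b) ∧ IsMulCommutative ↥B ∧ ¬ IsCyclic ↥B ∧
      θ x ≤ closW d ∧ closW d = (⨆ b ∈ {b : G | b ∈ B ∧ b ≠ 1}, closW d ⊓ centralizer ({b} : Set G)) := by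
  haveI : Fact (Nat.Prime 2) := ⟨Nat.prime_two⟩
  obtain ⟨n, rfl⟩ := d.s.surj x hx
  obtain ⟨w, hwV, hw0, hw40, hnw⟩ := cent_four n (d.isInv_of_isConj forty_facts.1 hz)
  set B := d.subV ⊓ centralizer ({d.s.φ n} : Set G)
  have hzB : d.z ∈ B := ⟨d.z_mem_V, mem_centralizer_singleton_iff.2 (d.comm_z (d.s.mem n)).symm⟩
  have hwB : d.s.φ w ∈ B := ⟨d.s.mem_sub.2 hwV, mem_centralizer_singleton_iff.2 (d.s.commute.2 hnw).symm⟩
  haveI hBc : IsMulCommutative ↥B := ⟨⟨fun a b => Subtype.ext (comm_V d a.2.1 b.2.1)⟩⟩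
  have hnc : ¬ IsCyclic ↥B := by
    intro hc
    obtain ⟨g, hg⟩ := hc.exists_ofOrder_eq_natCard
    have h2 : orderOf g ≤ 2 := Nat.le_of_dvd two_pos (orderOf_dvd_of_pow_eq_one (Subtype.ext (by
      rw [Subgroup.coe_pow, pow_two, sq_V d g.2.1]; rfl)))
    have h3 : ({1, d.z, d.s.φ w} : Set G) ⊆ B := by
      rintro _ (rfl | rfl | rfl)
      exacts [one_mem _, hzB, hwB]
    have h4 := Set.ncard_le_ncard h3 (Set.toFinite _)
    have h1 : d.z ≠ 1 := fun e => by have := d.orderOf_z; rw [e, orderOf_one] at this; norm_num at this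
    rw [Set.ncard_eq_three.2 ⟨1, d.z, d.s.φ w, h1.symm, fun e => hw0 (d.s.eq_one.1 e.symm),
      fun e => hw40 (d.s.inj e.symm), rfl⟩, ← Nat.card_coe_set_eq] at h4
    have : Nat.card ↥B ≤ 2 := hg ▸ h2
    exact absurd (h4.trans this) (by norm_num)
  have hBM : ∀ K : Subgroup G, IsPGroup 2 ↥B → Odd (Nat.card ↥K) → (Nat.card ↥B).Coprime (Nat.card ↥K) := by
    intro K hB hK
    obtain ⟨i, hi⟩ := IsPGroup.iff_card.1 hB
    exact hi ▸ Nat.Coprime.pow_left i hK.coprime_two_left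
  have hB2 : IsPGroup 2 ↥B := d.S.isPGroup'.to_le (inf_le_left.trans d.s.sub_le)
  have hθn : B ≤ normalizer (θ (d.s.φ n) : Set G) := fun b hb =>
    mem_normalizer_of_cI (by
      rintro _ ⟨y, hy, rfl⟩
      exact θ_normal (mem_centralizer_singleton_iff.1 hb.2) hy)
  have hWn : B ≤ normalizer (closW d : Set G) := fun b hb => S_le_M d (d.s.sub_le hb.1)
  refine ⟨B, inf_le_left, fun b hb => mem_centralizer_singleton_iff.1 hb.2, hBc, hnc, ?_, ?_⟩
  · rw [← Grp.generated_by_centralizers B _ hnc hθn (hBM _ hB2 (θ_odd _))]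
    refine iSup₂_le fun b hb => (balance h ?_ (conj_V d hb.1.1 hb.2) ?_).trans (θ_le_W d hb.1.1 hb.2)
    · exact d.s.sq.2 (by
        have := d.isInv_of_isConj forty_facts.1 hz
        rw [isInv, Bool.and_eq_true, beq_iff_eq] at this
        exact this.2)
    · exact (mem_centralizer_singleton_iff.1 hb.1.2).symm
  · exact (Grp.generated_by_centralizers B _ hnc hWn (hBM _ hB2 (W_spec h).1)).symm

/-- Conjugation keeps the closure as soon as a four group goes to conjugates of the central involution. -/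
theorem mem_M_of_four {g : G} {B : Subgroup G} (hB : B ≤ d.subV)
    (hW : closW d = (⨆ b ∈ {b : G | b ∈ B ∧ b ≠ 1}, closW d ⊓ centralizer ({b} : Set G)))
    (hg : ∀ b ∈ B, b ≠ 1 → θ (g * b * g⁻¹) ≤ closW d) : g ∈ maxM d := by
  refine mem_normalizer_of_cI ?_
  nth_rewrite 1 [hW]
  rw [cI, map_le_iff_le_comap]
  refine iSup₂_le fun b hb x hx => ?_
  rw [(W_spec h).2 b (hB hb.1) hb.2] at hx
  exact hg b hb.1 hb.2 (θ_conj hx)

/-- A conjugate in the Sylow subgroup is moved to the centre inside the normalizer. -/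
theorem pure_conj {x : G} (hx : x ∈ (d.S : Subgroup G)) (hz : IsConj d.z x) :
    ∃ g ∈ maxM d, g * x * g⁻¹ = d.z := by
  obtain ⟨B, hBV, hBx, -, -, -, hW⟩ := pure_spec h hx hz
  obtain ⟨g₀, hg₀⟩ := isConj_iff.1 hz.symm
  obtain ⟨g, hg, hgB⟩ := d.exists_extremal_conj hg₀ (fun s hs => d.comm_z hs)
    (B := B) (d.S.isPGroup'.to_le (hBV.trans d.s.sub_le)) hBx
  refine ⟨g, mem_M_of_four h hBV hW fun b hb hb1 => ?_, hg⟩
  obtain ⟨-, -, -, -, -, hθ, -⟩ := pure_spec h (hgB (mem_cI hb))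
    ((conj_V d (hBV hb) hb1).trans (isConj_iff.2 ⟨g, rfl⟩))
  exact hθ

/-- The centralizer of the central involution. -/
theorem C_le_M : centralizer ({d.z} : Set G) ≤ maxM d := by
  intro c hc
  obtain ⟨B, hBV, -, -, -, -, hW⟩ := pure_spec h (x := d.z) (d.s.mem 40) (IsConj.refl _)
  refine mem_M_of_four h hBV hW fun b hb hb1 => ?_
  set y := c * b * c⁻¹ with hy
  have hy2 : y * y = 1 := by
    rw [hy, show c * b * c⁻¹ * (c * b * c⁻¹) = c * (b * b) * c⁻¹ by group, sq_V d (hBV hb)]; group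
  have hbR : b ∈ subR d := by
    obtain ⟨n, hn, rfl⟩ := hBV hb
    exact d.s.mem_sub.2 (inR_of_inV n hn)
  have hn' : subR d ≤ normalizer (θ d.z : Set G) := fun r hr => mem_normalizer_of_cI (by
    rintro _ ⟨x, hx, rfl⟩
    exact θ_normal (mem_centralizer_singleton_iff.1 (subR_le_C hr)) hx)
  have hyR := h.conj c hc b hbR
  rw [← SetLike.mem_coe, Subgroup.coe_mul_of_left_le_normalizer_right _ _ hn'] at hyR
  obtain ⟨r, hr, o, ho, e⟩ := hyR
  have e' : r * o = y := e
  obtain ⟨m, hm⟩ := d.s.surj r (d.s.sub_le hr)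
  have hr2 : r * r = 1 := by
    have ho' : r⁻¹ * o * r ∈ θ d.z := by
      have := θ_normal (mem_centralizer_singleton_iff.1 (subR_le_C (inv_mem hr))) ho
      rwa [inv_inv] at this
    have h1 : r * r ∈ θ d.z := by
      have h2 : r * r * (r⁻¹ * o * r * o) = 1 := by rw [← hy2, ← e']; group
      rw [eq_inv_of_mul_eq_one_left h2]
      exact inv_mem (mul_mem ho' ho)
    exact JTwoType.two_odd_eq_one d.S.isPGroup' (θ_odd d.z) (mul_mem (d.s.sub_le hr) (d.s.sub_le hr)) h1
  have hyr : y * r ∈ θ d.z := by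
    rw [← e']
    have := θ_normal (g := r) (mem_centralizer_singleton_iff.1 (subR_le_C hr)) ho
    rwa [show r⁻¹ = r from inv_eq_of_mul_eq_one_right hr2] at this
  obtain ⟨u, hu, hur⟩ := JTwoType.exists_exact hy2 hr2 ((θ_odd d.z).of_dvd_nat (by
    have := orderOf_dvd_natCard (⟨y * r, hyr⟩ : ↥(θ d.z))
    rwa [Subgroup.orderOf_mk] at this))
  have hz : IsConj d.z r := ((conj_V d (hBV hb) hb1).trans (isConj_iff.2 ⟨c, rfl⟩)).trans
    (isConj_iff.2 ⟨u, hur⟩ : IsConj r y).symm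
  obtain ⟨-, -, -, -, -, hθ, -⟩ := pure_spec h (d.s.sub_le hr) hz
  intro x hx
  have huW : u ∈ closW d := θ_z_le_W d ((zpowers_le.2 hyr) hu)
  have h1 : u⁻¹ * x * u ∈ θ r := by
    have := θ_conj (g := u⁻¹) hx
    rw [inv_inv, show u⁻¹ * y * u = r by rw [← hur]; group] at this
    exact this
  have := mul_mem (mul_mem huW (hθ h1)) (inv_mem huW)
  simpa [mul_assoc] using this

/-- A conjugate of the central involution in the normalizer determines the conjugating element. -/
theorem mem_M_of_conj {g : G} (hg : g * d.z * g⁻¹ ∈ maxM d) : g ∈ maxM d := by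
  haveI : Fact (Nat.Prime 2) := ⟨Nat.prime_two⟩
  have h2 : orderOf (g * d.z * g⁻¹) = 2 := by
    rw [show g * d.z * g⁻¹ = MulAut.conj g d.z from rfl, (MulAut.conj g).orderOf_eq, d.orderOf_z]
  obtain ⟨m, hm, P, hP, -, hSP, hRP⟩ := align (maxM d) (zpowers (g * d.z * g⁻¹)) (d.S : Subgroup G)
    (IsPGroup.of_card (n := 1) (by rw [Nat.card_zpowers, h2, pow_one])) (zpowers_le.2 hg) d.S.isPGroup' (S_le_M d)
  have hmS : m * (g * d.z * g⁻¹) * m⁻¹ ∈ (d.S : Subgroup G) :=
    (d.S.3 hP hSP) ▸ hRP (mem_cI (mem_zpowers _))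
  obtain ⟨m', hm', hme⟩ := pure_conj h hmS (isConj_iff.2 ⟨m * g, by group⟩)
  have hC : m' * m * g ∈ centralizer ({d.z} : Set G) := mem_centralizer_singleton_iff.2 (mul_inv_eq_iff_eq_mul.1 (by
    conv_rhs => rw [← hme]
    group))
  have := mul_mem (inv_mem (mul_mem hm' hm)) (C_le_M h hC)
  simpa [mul_assoc] using this

/-- The centralizer of a conjugate of the central involution in the normalizer lies there. -/
theorem cent_le_M {y : G} (hy : y ∈ maxM d) (hz : IsConj d.z y) : centralizer ({y} : Set G) ≤ maxM d := by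
  obtain ⟨g, rfl⟩ := isConj_iff.1 hz
  intro c hc
  have h1 := mem_centralizer_singleton_iff.1 hc
  have := mem_M_of_conj h (g := c * g) (by
    rw [show c * g * d.z * (c * g)⁻¹ = c * (g * d.z * g⁻¹) * c⁻¹ by group, h1, mul_inv_cancel_right]
    exact hy)
  simpa using mul_mem this (inv_mem (mem_M_of_conj h hy))

end Cfsg.Agent.Spor.HSFunctor
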