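import Cfsg.Agent.Lib.Spor.HSType.Two

/-!
# Codes for the signalizer argument and the centralizer of the non-central involution
-/

set_option autoImplicit false
set_option maxRecDepth 100000
set_option maxHeartbeats 4000000
set_option synthInstance.maxSize 4000

namespace Cfsg.Agent.Spor.HSFunctor

open Cfsg.Agent.Spor.HSType

/-- The subgroup generated by the elementary subgroup and the classes 3 and 7, as a set of codes. -/
def rLit : ℕ := 228024573158558415416952696696218420186592403845665525773718351158996342818703195329075229976974381563032635606709458823744137278260485

/-- Membership in it. -/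
def inR (n : Fin 512) : Bool := Nat.testBit rLit n

/-- The subgroup generated by the involutions of the centre's class commuting with 133. -/
def tLit (b : Bool) : ℕ := cond b 25972947962469365521990794961896974422676065373767053543116650586603540081966544257838373121136419723408600224634723411833911682439222690735466742785 106385194854274521178074296163929966848224812466608660915976409974456784423899461876814059124742215250303701766988466954430736174944914307746129887888385

/-- Membership in it. -/
def inT (b : Bool) (n : Fin 512) : Bool := Nat.testBit (tLit b) n

/-- A subgroup of index two over it, avoiding 133. -/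
def hLit (b : Bool) : ℕ := cond b 25972947962469365522694793127066030472236766559291009647334922312259659254080998189331466481317458330770725023355541037658430998147335446819944530945 106385194854274521178075000162095135904274373167794184872080628246182440543013623761036570842399227273088557239681901929388112252722359966583229220127745

/-- Membership in it. -/
def inH (b : Bool) (n : Fin 512) : Bool := Nat.testBit (hLit b) n

theorem inR_closed : inR 0 = true ∧ inR 40 = true ∧
    (∀ n : Fin 512, inR n = true → ∀ m : Fin 512, inR m = true → inR (mulS n m) = true) ∧
    ∀ n : Fin 512, inR n = true → inR (invS n) = true := by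
  decide +kernel

theorem inR_of_inV : ∀ n : Fin 512, inV n = true → inR n = true := by decide +kernel

theorem cent_four : ∀ n : Fin 512, isInv n = true →
    ∃ w : Fin 512, inV w = true ∧ w ≠ 0 ∧ w ≠ 40 ∧ commS n w = true := by
  decide +kernel

theorem inT_closed : ∀ b : Bool, inT b 0 = true ∧ inT b 40 = true ∧ inT b 133 = false ∧
    (∀ n : Fin 512, inT b n = true → ∀ m : Fin 512, inT b m = true → inT b (mulS n m) = true) ∧
    ∀ n : Fin 512, inT b n = true → inT b (invS n) = true ∧ commS n 133 = true := by
  decide +kernel

theorem inH_closed : ∀ b : Bool, inH b 0 = true ∧ inH b 133 = false ∧
    (∀ n : Fin 512, inH b n = true → ∀ m : Fin 512, inH b m = true → inH b (mulS n m) = true) ∧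
    (∀ n : Fin 512, inH b n = true → inH b (invS n) = true) ∧
    (∀ n : Fin 512, inT b n = true → inH b n = true) ∧
    ∀ n : Fin 512, commS n 133 = true → inH b n = false → inH b (mulS n 133) = true := by
  decide +kernel

theorem inT_pure : ∀ b : Bool, ∀ n : Fin 512, isInv n = true →
    (inT b n = true → inZ b n = true) ∧ (commS n 133 = true → inZ b n = true → inT b n = true) := by
  decide +kernel

/-- The involutions of the centre's class commuting with 133, as a short list. -/
def pureList (b : Bool) : List (Fin 512) :=
  (List.finRange 512).filter fun n => isInv n && commS n 133 && inZ b n

theorem inT_gen : ∀ b : Bool, ∀ n : Fin 512, inT b n = true → n = 0 ∨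
    ((pureList b).any fun p => n == p || (pureList b).any fun q => n == mulS p q ||
      (pureList b).any fun r => n == mulS (mulS p q) r) = true := by
  decide +kernel

theorem inT_two : ∀ b : Bool, ∀ n : Fin 512, commS n 133 = true → inT b n = false →
    inT b (mulS n 133) = false → ∀ m : Fin 512, commS m 133 = true → inT b m = false →
    inT b (mulS m 133) = false → (inT b (mulS n m) = true ∨ inT b (mulS (mulS n m) 133) = true) := by
  decide +kernel

theorem u_facts : isInv 133 = true ∧ inC 4 133 = true ∧ commS 133 133 = true ∧ 64 ≤ centCard 133 ∧ isInv 40 = true := by
  decide +kernel

theorem cent_u_classes : ∀ n : Fin 512, isInv n = true → 64 ≤ centCard n →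
    ∀ b : Bool, inZ b n = false → inC 4 n = true ∧ centCard n = centCard 133 := by
  decide +kernel

end Cfsg.Agent.Spor.HSFunctor
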