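import Cfsg.Agent.Lib.Spor.HSFunctor.Codes
import Cfsg.Agent.Lib.Invol.Transfer2

/-!
# The conjugates of the central involution in the centralizer of the other class

Two transfers show that the subgroup they generate there has no involution of the other class.
-/

set_option autoImplicit false
set_option linter.unusedSectionVars false
set_option linter.style.haveILetI false
set_option maxRecDepth 100000

namespace Cfsg.Agent.Spor.HSFunctor

open Subgroup
open Cfsg.Agent.Spor.HSType
open Cfsg.Agent.Spor.JTwoType (cI mem_cI card_cI align conj_into)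

universe u

/-- An involution whose conjugates avoid a subgroup of index two of a Sylow subgroup is no product of involutions
whose conjugates stay in it. -/
theorem split_false {L : Type*} [Group L] [Finite L] (I : Set L) (hgen : closure I = ⊤)
    (hI : ∀ i ∈ I, ∀ l : L, l⁻¹ * i * l ∈ I) (hI2 : ∀ i ∈ I, i * i = 1) (R : Sylow 2 L) (M : Subgroup L)
    (hM : M.relIndex (R : Subgroup L) = 2) (hMI : ∀ i ∈ I, i ∈ (R : Subgroup L) → i ∈ M) {w : L}
    (hw : orderOf w = 2) (hw' : ∀ l : L, l⁻¹ * w * l ∈ (R : Subgroup L) → l⁻¹ * w * l ∉ M) : False := by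
  classical
  haveI : Fact (Nat.Prime 2) := ⟨Nat.prime_two⟩
  set M' := M.subgroupOf (R : Subgroup L) with hM'
  haveI : M'.Normal := Subgroup.normal_of_index_eq_two hM
  have hQ2 : Nat.card (↥(R : Subgroup L) ⧸ M') = 2 := hM
  haveI := isCyclic_of_prime_card hQ2
  letI : CommGroup (↥(R : Subgroup L) ⧸ M') := IsCyclic.commGroup
  let ψ : ↥(R : Subgroup L) →* ↥(R : Subgroup L) ⧸ M' := QuotientGroup.mk' M'
  have hψ : ∀ a : ↥(R : Subgroup L), ψ a = 1 ↔ (a : L) ∈ M := fun a => by
    rw [QuotientGroup.mk'_apply, QuotientGroup.eq_one_iff]; rfl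
  letI := Fintype.ofFinite (L ⧸ (R : Subgroup L))
  let V : L →* ↥(R : Subgroup L) ⧸ M' := MonoidHom.transfer ψ
  have hVI : ∀ i ∈ I, V i = 1 := fun i hi => by
    rw [Invol.transfer_involution ψ (hI2 i hi)]
    refine Finset.prod_eq_one fun q _ => ?_
    by_cases h : q.out⁻¹ * i * q.out ∈ (R : Subgroup L)
    · rw [dif_pos h, hψ]; exact hMI _ (hI i hi _) h
    · rw [dif_neg h]
  have hV1 : V w = 1 := by
    have : closure I ≤ V.ker := (closure_le _).2 fun i hi => MonoidHom.mem_ker.2 (hVI i hi)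
    exact MonoidHom.mem_ker.1 (this (hgen ▸ mem_top w))
  obtain ⟨ι, hι⟩ : ∃ ι : ↥(R : Subgroup L) ⧸ M', ι ≠ 1 := by
    haveI : Nontrivial (↥(R : Subgroup L) ⧸ M') := Finite.one_lt_card_iff_nontrivial.1 (by omega)
    exact exists_ne 1
  have huniq : ∀ a, a ≠ 1 → a = ι := fun a ha => by
    obtain ⟨y, hy, hyu⟩ := (Nat.card_eq_two_iff' (1 : ↥(R : Subgroup L) ⧸ M')).1 hQ2
    exact (hyu a ha).trans (hyu ι hι).symm
  have hww : w * w = 1 := by rw [← pow_two, ← hw]; exact pow_orderOf_eq_one w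
  rw [show V w = MonoidHom.transfer ψ w from rfl, Invol.transfer_involution ψ hww] at hV1
  have hfix : ∀ q : L ⧸ (R : Subgroup L), (w • q = q ↔ q.out⁻¹ * w * q.out ∈ (R : Subgroup L)) := fun q => by
    rw [← Invol.smul_mk_eq_iff, QuotientGroup.out_eq']
  rw [Finset.prod_congr rfl (g := fun q => if w • q = q then ι else 1) (fun q _ => by
    by_cases h : q.out⁻¹ * w * q.out ∈ (R : Subgroup L)
    · rw [dif_pos h, if_pos ((hfix q).2 h)]
      exact huniq _ fun e => hw' _ h ((hψ _).1 e)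
    · rw [dif_neg h, if_neg (mt (hfix q).1 h)]), Finset.prod_ite, Finset.prod_const_one, mul_one,
    Finset.prod_const] at hV1
  have hodd := Invol.odd_card_fixed R hw
  rw [Nat.card_eq_fintype_card, Fintype.card_subtype] at hodd
  obtain ⟨k, hk⟩ := hodd
  refine hι ?_
  have h2 : ι ^ 2 = 1 := by
    have := pow_card_eq_one' (x := ι)
    rwa [hQ2] at this
  rw [hk, pow_succ, pow_mul, h2, one_pow, one_mul] at hV1
  exact hV1

variable {G : Type u} [Group G] [Finite G] (d : Setting G)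

/-- The two classes. -/
theorem classes : ∃ b : Bool, ∀ n : Fin 512, isInv n = true →
    (IsConj d.z (d.s.φ n) ↔ inZ b n = true) ∧ (inZ b n = false → IsConj (d.s.φ 133) (d.s.φ n)) := by
  obtain ⟨b, hz, hu⟩ := d.two_classes
  have hzu : ¬ IsConj d.z (d.s.φ 133) := fun h => d.four_not_z h.symm
  refine ⟨b, fun n hn => ?_⟩
  obtain ⟨k, hk⟩ := (inC_inv n).1 hn
  rcases cls_split b k with h | h
  · have hZ : inZ b n = true := by
      simp only [List.mem_cons, List.not_mem_nil, or_false] at h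
      rcases h with rfl | rfl | rfl | rfl | rfl | rfl <;> simp [inZ, hk]
    exact ⟨iff_of_true ((hz k h).trans (d.conj_rep hk)) hZ, fun h' => by rw [hZ] at h'; exact Bool.noConfusion h'⟩
  · have hU := (hu k h).trans (d.conj_rep hk)
    refine ⟨iff_of_false (fun e => hzu (e.trans hU.symm)) fun hZ => ?_, fun _ => hU⟩
    simp only [inZ, Bool.or_eq_true] at hZ
    have key : ∀ j : Fin 9, j ∈ ([0, 1, 2, 3, 7, sCls b] : List (Fin 9)) → inC j n = true → False := fun j hj hjn =>
      hzu ((hz j hj).trans ((d.conj_rep hjn).trans hU.symm))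
    rcases hZ with ((((h' | h') | h') | h') | h') | h' <;> exact key _ (by simp) h'

/-- Every involution in the subgroup generated by the conjugates of the centre centralising 133 is one of them. -/
theorem pure_in_closure {x : G}
    (hx : x ∈ closure {y : G | IsConj d.z y ∧ y * d.s.φ 133 = d.s.φ 133 * y}) (hx2 : orderOf x = 2) :
    IsConj d.z x := by
  classical
  haveI : Fact (Nat.Prime 2) := ⟨Nat.prime_two⟩
  obtain ⟨b, hb⟩ := classes d
  obtain ⟨hu1, hu4, hu5, hu64, h40⟩ := u_facts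
  set u := d.s.φ 133 with hu
  set C := centralizer ({u} : Set G) with hC
  set J := {y : G | IsConj d.z y ∧ y * u = u * y} with hJ
  set L := closure J with hL
  have hLC : L ≤ C := (closure_le _).2 fun y hy => mem_centralizer_singleton_iff.2 hy.2
  set TU := (d.S : Subgroup G) ⊓ C with hTU
  have huS : u ∈ (d.S : Subgroup G) := d.s.mem 133
  -- `TU` is a Sylow subgroup of the centralizer
  have hmax : ∀ P : Subgroup G, IsPGroup 2 ↥P → P ≤ C → ∃ c ∈ C, cI c P ≤ TU := by
    intro P hP hPC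
    obtain ⟨c, hc, P', hP', hP'C, hTP, hcP⟩ := align C P TU hP hPC (d.S.isPGroup'.to_le inf_le_left) inf_le_right
    refine ⟨c, hc, le_trans hcP (le_of_eq (Subgroup.eq_of_le_of_card_ge hTP ?_).symm)⟩
    obtain ⟨g, hg⟩ := conj_into d.S hP'
    obtain ⟨n, hn⟩ := d.s.surj _ (hg (mem_cI (hTP ⟨huS, mem_centralizer_singleton_iff.2 rfl⟩)))
    have hle : cI g P' ≤ (d.S : Subgroup G) ⊓ centralizer ({d.s.φ n} : Set G) := le_inf hg fun y hy => by
      obtain ⟨p, hp, rfl⟩ := hy
      rw [hn]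
      refine mem_centralizer_singleton_iff.2 ?_
      show g * p * g⁻¹ * (g * u * g⁻¹) = g * u * g⁻¹ * (g * p * g⁻¹)
      calc _ = g * (p * u) * g⁻¹ := by group
        _ = g * (u * p) * g⁻¹ := by rw [mem_centralizer_singleton_iff.1 (hP'C hp)]
        _ = _ := by group
    have h1 := Subgroup.card_le_of_le hle
    rw [card_cI, d.card_centS] at h1
    have hconj : IsConj (d.s.φ 133) (d.s.φ n) := isConj_iff.2 ⟨g, hn.symm⟩
    have hni : isInv n = true := d.isInv_of_isConj hu1 hconj
    have hnZ : inZ b n = false := by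
      by_contra h
      exact d.four_not_z (hconj.trans ((hb n hni).1.2 (by simpa using h)).symm)
    have h64 : 64 ≤ centCard n := by
      have := Subgroup.card_le_of_le hTP
      rw [d.card_centS] at this
      omega
    rw [d.card_centS, ← (cent_u_classes n hni h64 b hnZ).2]
    exact h1
  -- the Sylow subgroup of the closure
  set R := TU.subgroupOf L with hR
  have hR2 : IsPGroup 2 ↥R := (d.S.isPGroup'.to_le inf_le_left).comap_of_injective _ L.subtype_injective
  let RS : Sylow 2 ↥L := ⟨R, hR2, fun {Q} hQ hRQ => by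
    obtain ⟨c, hc, hcQ⟩ := hmax (Q.map L.subtype) (hQ.map _) ((map_subtype_le _).trans hLC)
    have hcL : ∀ y ∈ L, c * y * c⁻¹ ∈ L := fun y hy => by
      have hle : L ≤ L.comap (MulAut.conj c).toMonoidHom := (closure_le _).2 fun i hi =>
        subset_closure ⟨hi.1.trans (isConj_iff.2 ⟨c, rfl⟩), by
          show c * i * c⁻¹ * u = u * (c * i * c⁻¹)
          have hcu := mem_centralizer_singleton_iff.1 hc
          calc c * i * c⁻¹ * u = c * i * c⁻¹ * (u * c) * c⁻¹ := by group
            _ = c * (i * u) * c⁻¹ := by rw [← hcu]; group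
            _ = c * u * i * c⁻¹ := by rw [hi.2]; group
            _ = _ := by rw [hcu]; group⟩
      exact hle hy
    refine (Subgroup.eq_of_le_of_card_ge hRQ ?_).symm
    calc Nat.card ↥Q = Nat.card ↥(cI c (Q.map L.subtype)) := by
          rw [card_cI, Subgroup.card_map_of_injective L.subtype_injective]
      _ ≤ Nat.card ↥(TU ⊓ L) := Subgroup.card_le_of_le (le_inf hcQ (by
          rintro _ ⟨y, hy, rfl⟩
          exact hcL y (map_subtype_le _ hy)))
      _ = Nat.card ↥R := by
          rw [hR, ← Subgroup.inf_subgroupOf_right, Nat.card_congr (subgroupOfEquivOfLe inf_le_right).toEquiv]⟩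
  have hRS : (RS : Subgroup ↥L) = R := rfl
  have hcode : ∀ y : ↥L, y ∈ R → ∃ n, d.s.φ n = (y : G) ∧ commS n 133 = true := fun y hy => by
    obtain ⟨n, hn⟩ := d.s.surj _ (mem_subgroupOf.1 hy).1
    exact ⟨n, hn, d.s.commute.1 (by rw [hn, mem_centralizer_singleton_iff.1 (mem_subgroupOf.1 hy).2])⟩
  set T0 := d.s.sub (inT b) (inT_closed b).1 (fun n m a c => (inT_closed b).2.2.2.1 n a m c)
    (fun n a => ((inT_closed b).2.2.2.2 n a).1) with hT0
  have hpureT : ∀ y : ↥L, y ∈ R → IsConj d.z (y : G) → (y : G) ∈ T0 := fun y hy hz => by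
    obtain ⟨n, hn, hc⟩ := hcode y hy
    rw [← hn] at hz ⊢
    have hni := d.isInv_of_isConj forty_facts.1 hz
    exact d.s.mem_sub.2 ((inT_pure b n hni).2 hc ((hb n hni).1.1 hz))
  have hT0L : ∀ n, inT b n = true → d.s.φ n ∈ L := fun n hn => by
    have hp : ∀ p ∈ pureList b, d.s.φ p ∈ L := fun p hp => by
      simp only [pureList, List.mem_filter, Bool.and_eq_true] at hp
      exact subset_closure ⟨((hb p hp.2.1.1).1.2 hp.2.2), d.s.commute.2 hp.2.1.2⟩
    rcases inT_gen b n hn with rfl | h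
    · rw [d.s.one]; exact one_mem _
    simp only [List.any_eq_true, Bool.or_eq_true, beq_iff_eq] at h
    obtain ⟨p, hp', rfl | ⟨q, hq, rfl | ⟨r, hr, rfl⟩⟩⟩ := h
    · exact hp _ hp'
    · rw [← d.s.mul]; exact mul_mem (hp _ hp') (hp _ hq)
    · rw [← d.s.mul, ← d.s.mul]; exact mul_mem (mul_mem (hp _ hp') (hp _ hq)) (hp _ hr)
  let I : Set ↥L := {y | (y : G) ∈ J}
  have hgen : closure I = ⊤ := Subgroup.closure_closure_coe_preimage
  have hIconj : ∀ i ∈ I, ∀ l : ↥L, l⁻¹ * i * l ∈ I := by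
    intro i hi l
    show (l : G)⁻¹ * i * l ∈ J
    have hlu := mem_centralizer_singleton_iff.1 (hLC l.2)
    refine ⟨hi.1.trans (isConj_iff.2 ⟨(l : G)⁻¹, by group⟩), ?_⟩
    calc (l : G)⁻¹ * i * l * u = (l : G)⁻¹ * (i * u) * l := by rw [mul_assoc _ (l : G) u, hlu]; group
      _ = (l : G)⁻¹ * u * (i * l) := by rw [hi.2]; group
      _ = (l : G)⁻¹ * (u * l) * ((l : G)⁻¹ * i * l) := by group
      _ = _ := by rw [← hlu]; group
  have hI2 : ∀ i ∈ I, i * i = 1 := fun i hi => by
    obtain ⟨g, hg⟩ := isConj_iff.1 hi.1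
    refine Subtype.ext ?_
    show (i : G) * i = 1
    rw [← hg, show g * d.z * g⁻¹ * (g * d.z * g⁻¹) = g * (d.z * d.z) * g⁻¹ by group,
      show d.z * d.z = 1 by rw [← pow_two, ← d.orderOf_z]; exact pow_orderOf_eq_one _]
    group
  -- the first transfer
  have huL : u ∉ L := fun huL => by
    set H := d.s.sub (inH b) (inH_closed b).1 (fun n m a c => (inH_closed b).2.2.1 n a m c)
      (fun n a => (inH_closed b).2.2.2.1 n a)
    refine split_false I hgen hIconj hI2 RS (H.subgroupOf L) ?_ (fun i hi hiR => ?_) (w := ⟨u, huL⟩) ?_ ?_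
    · rw [hRS, Subgroup.relIndex, Subgroup.index_eq_two_iff]
      refine ⟨⟨⟨u, huL⟩, mem_subgroupOf.2 ⟨huS, mem_centralizer_singleton_iff.2 rfl⟩⟩, fun r => ?_⟩
      obtain ⟨n, hn, hc⟩ := hcode r.1 r.2
      show Xor' (((r : ↥L) : G) * u ∈ H) (((r : ↥L) : G) ∈ H)
      rw [← hn, hu, d.s.mul, d.s.mem_sub, d.s.mem_sub]
      obtain ⟨-, h133, hmul, hinv, -, hsplit⟩ := inH_closed b
      by_cases h : inH b n = true
      · refine Or.inr ⟨h, fun h' => ?_⟩
        have := hmul _ (hinv n h) _ h'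
        rw [show mulS (invS n) (mulS n 133) = 133 from d.s.inj (by
          rw [← d.s.mul, ← d.s.mul, ← d.s.inv, inv_mul_cancel_left]), h133] at this
        exact Bool.noConfusion this
      · exact Or.inl ⟨hsplit n hc (by simpa using h), h⟩
    · obtain ⟨n, hn, e⟩ := hpureT i hiR hi.1
      exact mem_subgroupOf.2 (e ▸ d.s.mem_sub.2 ((inH_closed b).2.2.2.2.1 n hn))
    · exact (Subgroup.orderOf_mk u huL).trans (d.s.orderOf_two.2 hu1)
    · intro l _ hlH
      have hlu := mem_centralizer_singleton_iff.1 (hLC l.2)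
      have : (l : G)⁻¹ * u * l = u := by rw [mul_assoc, ← hlu, inv_mul_cancel_left]
      have hmem : (l : G)⁻¹ * u * l ∈ H := hlH
      rw [this, hu, d.s.mem_sub, (inH_closed b).2.1] at hmem
      exact Bool.noConfusion hmem
  have hu133 : ∀ n, inT b (mulS n 133) = true → d.s.φ n ∈ L → False := fun n hn hnL => huL (by
    have := mul_mem (inv_mem hnL) (hT0L _ hn)
    rwa [← d.s.mul, inv_mul_cancel_left] at this)
  -- the second transfer
  have hpure : ∀ y : ↥L, y ∈ R → orderOf y = 2 → IsConj d.z (y : G) := by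
    intro a haR ha2
    by_contra hna
    have ha2' : orderOf (a : G) = 2 := by rw [Subgroup.orderOf_coe, ha2]
    have hout : ∀ y : ↥L, y ∈ R → orderOf (y : G) = 2 → ¬ IsConj d.z (y : G) → (y : G) ∉ T0 := by
      intro y hy hy2 hyn hyT
      obtain ⟨n, hn, hc⟩ := hcode y hy
      rw [← hn] at hy2 hyn hyT
      have hni := d.s.orderOf_two.1 hy2
      exact hyn ((hb n hni).1.2 ((inT_pure b n hni).1 (d.s.mem_sub.1 hyT)))
    have haT := hout a haR ha2' hna
    refine split_false I hgen hIconj hI2 RS (T0.subgroupOf L) ?_ (fun i hi hiR => mem_subgroupOf.2 (hpureT i hiR hi.1))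
      (w := a) ha2 ?_
    · rw [hRS, Subgroup.relIndex, Subgroup.index_eq_two_iff]
      refine ⟨⟨a, haR⟩, fun r => ?_⟩
      obtain ⟨n, hn, hcn⟩ := hcode r.1 r.2
      obtain ⟨m, hm, hcm⟩ := hcode a haR
      show Xor' (((r : ↥L) : G) * (a : G) ∈ T0) (((r : ↥L) : G) ∈ T0)
      by_cases h : ((r : ↥L) : G) ∈ T0
      · exact Or.inr ⟨h, fun h' => haT (by simpa using mul_mem (inv_mem h) h')⟩
      · refine Or.inl ⟨?_, h⟩
        rw [← hn] at h ⊢
        rw [← hm] at haT ⊢
        rw [d.s.mem_sub] at h haT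
        rw [d.s.mul]
        have hnL : d.s.φ n ∈ L := hn.symm ▸ (r : ↥L).2
        have hmL : d.s.φ m ∈ L := hm.symm ▸ a.2
        rcases inT_two b n hcn (by simpa using h) (by by_contra e; exact hu133 n (by simpa using e) hnL)
          m hcm (by simpa using haT) (by by_contra e; exact hu133 m (by simpa using e) hmL) with e | e
        · exact d.s.mem_sub.2 e
        · exact absurd e fun e => hu133 _ e (d.s.mul n m ▸ mul_mem hnL hmL)
    · intro l hl hlT
      refine hout _ hl ?_ (fun hz => hna (hz.trans (isConj_iff.2 ⟨(l : G), by simp [mul_assoc]⟩))) hlT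
      rw [show ((l⁻¹ * a * l : ↥L) : G) = MulAut.conj (l : G)⁻¹ (a : G) by simp, MulEquiv.orderOf_eq, ha2']
  obtain ⟨Q, hQ⟩ := (IsPGroup.of_card (p := 2) (n := 1)
    (show Nat.card ↥(zpowers (⟨x, hx⟩ : ↥L)) = 2 ^ 1 by rw [Nat.card_zpowers, Subgroup.orderOf_mk, hx2, pow_one])).exists_le_sylow
  obtain ⟨g, hg⟩ := MulAction.exists_smul_eq ↥L Q RS
  have hy : g * ⟨x, hx⟩ * g⁻¹ ∈ R := by
    rw [← hRS, ← hg, Sylow.coe_subgroup_smul]
    exact smul_mem_pointwise_smul _ (MulAut.conj g) _ (hQ (mem_zpowers _))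
  have := hpure _ hy (by
    rw [show g * ⟨x, hx⟩ * g⁻¹ = MulAut.conj g ⟨x, hx⟩ from rfl, MulEquiv.orderOf_eq, Subgroup.orderOf_mk, hx2])
  exact this.trans (isConj_iff.2 ⟨((g : G))⁻¹, by simp [mul_assoc]⟩)

end Cfsg.Agent.Spor.HSFunctor
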