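import Cfsg.Agent.Lib.Spor.HSFunctor.Closure
import Cfsg.Agent.Lib.Spor.HSFunctor.UCase
import Cfsg.Agent.Lib.Invol.StronglyEmbeddedCount
import Cfsg.Agent.S1913

/-!
# The core of the centralizer of the central involution is trivial

Otherwise the normalizer of the closure is strongly embedded, and there are two classes of involutions.
-/

set_option autoImplicit false
set_option linter.unusedSectionVars false
set_option linter.style.haveILetI false

namespace Cfsg.Agent.Spor.HSFunctor

open Subgroup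
open Cfsg.Agent.Spor.HSType
open Cfsg.Agent.Spor.JTwoType (θ θ_odd)

universe u

variable {G : Type u} [Group G] [Finite G]

/-- The core of the centralizer of the central involution is trivial. -/
theorem theta_z_eq_bot (d : Setting G) (h : Local d) : θ d.z = ⊥ := by
  haveI := d.simple
  by_cases htop : maxM d = ⊤
  · have hWn : (closW d).Normal := normalizer_eq_top_iff.1 htop
    rcases IsSimpleGroup.eq_bot_or_eq_top_of_normal (closW d) hWn with e | e
    · exact le_bot_iff.1 (e ▸ θ_z_le_W d)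
    · exfalso
      have hW := (W_spec h).1
      rw [e, Subgroup.card_top] at hW
      exact Nat.not_even_iff_odd.2 hW (even_iff_two_dvd.2 (d.orderOf_z ▸ orderOf_dvd_natCard d.z))
  exfalso
  have hzM : d.z ∈ maxM d := S_le_M d (d.s.mem 40)
  have hzP : d.z ∈ (center ↥(d.S : Subgroup G)).map (d.S : Subgroup G).subtype :=
    ⟨⟨d.z, d.s.mem 40⟩, mem_center_iff.2 fun x => Subtype.ext (d.comm_z x.2), rfl⟩
  have hi : ∀ g : G, d.z ∈ (maxM d).map (MulAut.conj g).toMonoidHom ↔ g ∈ maxM d := by
    intro g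
    rw [mem_map_equiv, MulAut.conj_symm_apply]
    refine ⟨fun hg => ?_, fun hg => mul_mem (mul_mem (inv_mem hg) hzM) hg⟩
    have := mem_M_of_conj h (g := g⁻¹) (by rwa [inv_inv])
    simpa using inv_mem this
  obtain ⟨b, hb⟩ := classes d
  -- every involution outside the class of the centre is conjugate to the code 133
  have hother : ∀ v : G, orderOf v = 2 → ¬ IsConj d.z v → IsConj (d.s.φ 133) v := by
    intro v hv hvz
    haveI : Fact (Nat.Prime 2) := ⟨Nat.prime_two⟩
    obtain ⟨g, hg⟩ := JTwoType.conj_into d.S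
      (IsPGroup.of_card (n := 1) (show Nat.card ↥(zpowers v) = 2 ^ 1 by rw [Nat.card_zpowers, hv, pow_one]))
    obtain ⟨n, hn⟩ := d.s.surj _ (hg (JTwoType.mem_cI (mem_zpowers v)))
    have hni : isInv n = true := d.s.orderOf_two.1 (by
      rw [hn, show g * v * g⁻¹ = MulAut.conj g v from rfl, MulEquiv.orderOf_eq, hv])
    have hvn : IsConj v (d.s.φ n) := isConj_iff.2 ⟨g, hn.symm⟩
    refine ((hb n hni).2 ?_).trans hvn.symm
    by_contra hZ
    exact hvz (((hb n hni).1.2 (by simpa using hZ)).trans hvn.symm)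
  have hii : ∀ v : G, orderOf v = 2 → v * d.z = d.z * v → ¬ centralizer ({v} : Set G) ≤ maxM d →
      Cfsg.IsStronglyEmbedded ((maxM d).subgroupOf (closure {x : G | IsConj d.z x ∧ x * v = v * x})) := by
    intro v hv hvz hC
    set J := {x : G | IsConj d.z x ∧ x * v = v * x}
    have hvM : v ∈ maxM d := C_le_M h (mem_centralizer_singleton_iff.2 hvz)
    have hvn : ¬ IsConj d.z v := fun e => hC (cent_le_M h hvM e)
    obtain ⟨k, hk⟩ := isConj_iff.1 (hother v hv hvn).symm
    have hpure : ∀ x ∈ closure J, orderOf x = 2 → IsConj d.z x := by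
      intro x hx hx2
      have hle : closure J ≤ (closure {y : G | IsConj d.z y ∧ y * d.s.φ 133 = d.s.φ 133 * y}).comap
          (MulAut.conj k).toMonoidHom := (closure_le _).2 fun y hy => subset_closure ⟨hy.1.trans (isConj_iff.2 ⟨k, rfl⟩), by
        show k * y * k⁻¹ * d.s.φ 133 = d.s.φ 133 * (k * y * k⁻¹)
        rw [← hk]
        calc _ = k * (y * v) * k⁻¹ := by group
          _ = k * (v * y) * k⁻¹ := by rw [hy.2]
          _ = _ := by group⟩
      have h2 : k * x * k⁻¹ ∈ closure {y : G | IsConj d.z y ∧ y * d.s.φ 133 = d.s.φ 133 * y} := hle hx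
      exact (pure_in_closure d h2 (by
        rw [show k * x * k⁻¹ = MulAut.conj k x from rfl, MulEquiv.orderOf_eq, hx2])).trans (isConj_iff.2 ⟨k⁻¹, by group⟩)
    have hzJ : d.z ∈ closure J := subset_closure ⟨IsConj.refl _, hvz.symm⟩
    have hne : (maxM d).subgroupOf (closure J) ≠ ⊤ := fun e => hC fun g hg => by
      refine mem_M_of_conj h (subgroupOf_eq_top.1 e (subset_closure ⟨isConj_iff.2 ⟨g, rfl⟩, ?_⟩))
      have hgv := mem_centralizer_singleton_iff.1 hg
      calc g * d.z * g⁻¹ * v = g * d.z * g⁻¹ * (v * g) * g⁻¹ := by group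
        _ = g * (d.z * v) * g⁻¹ := by rw [← hgv]; group
        _ = g * v * d.z * g⁻¹ := by rw [← hvz]; group
        _ = _ := by rw [hgv]; group
    refine (Invol.isStronglyEmbedded_iff hne ?_).2 fun t ht ht2 g hg => ?_
    · exact Invol.even_card_of_mem (t := (⟨d.z, hzJ⟩ : ↥(closure J)))
        ((Subgroup.orderOf_mk _ _).trans d.orderOf_z) (mem_subgroupOf.2 hzM)
    · have ht' : (t : G) ∈ maxM d := ht
      obtain ⟨c, hc⟩ := isConj_iff.1 (hpure t t.2 (by rw [Subgroup.orderOf_coe, ht2]))
      have hcM : c ∈ maxM d := mem_M_of_conj h (hc.symm ▸ ht')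
      have hgM : (g : G)⁻¹ * c ∈ maxM d := mem_M_of_conj h (by
        rw [show (g : G)⁻¹ * c * d.z * ((g : G)⁻¹ * c)⁻¹ = (g : G)⁻¹ * (c * d.z * c⁻¹) * g by group, hc]
        exact hg)
      show (g : G) ∈ maxM d
      simpa using inv_mem (mul_mem hgM (inv_mem hcM))
  have hse := S1913.result d.S d.z d.orderOf_z hzP (maxM d) htop hi hii
  have hK : normalClosure ({d.z} : Set G) = ⊤ := by
    rcases IsSimpleGroup.eq_bot_or_eq_top_of_normal (normalClosure ({d.z} : Set G)) normalClosure_normal with e | e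
    · exfalso
      have : d.z ∈ (⊥ : Subgroup G) := e ▸ subset_normalClosure (Set.mem_singleton _)
      have h2 := d.orderOf_z
      rw [mem_bot.1 this, orderOf_one] at h2
      norm_num at h2
    · exact e
  rw [hK] at hse
  set z' : ↥(⊤ : Subgroup G) := ⟨d.z, mem_top _⟩
  set u' : ↥(⊤ : Subgroup G) := ⟨d.s.φ 133, mem_top _⟩
  have h1 := Invol.isConj_involutions hse (a := z') (b := u') ((Subgroup.orderOf_mk _ _).trans d.orderOf_z)
    ((Subgroup.orderOf_mk _ _).trans (d.s.orderOf_two.2 u_facts.1))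
  obtain ⟨g, hg⟩ := isConj_iff.1 h1
  exact d.four_not_z (isConj_iff.2 ⟨(g : G), congrArg Subtype.val hg⟩ : IsConj d.z (d.s.φ 133)).symm

end Cfsg.Agent.Spor.HSFunctor
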